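import Mathlib
import Groth.Prelude.Def_ProEtS
import Groth.Prelude.Def_PBC
import Groth.Agent.Lib.Helper9.FE.ProEtW1
import Groth.Agent.Lib.Helper9.FE.ProEtW5
import Groth.Agent.Lib.Helper6.ExtrDisc.ED3

/-! helper6: exactness of the direct image of abelian pro-étale sheaves along a finite, finitely
presented morphism (S0721): the base change of an affine weakly contractible object is again
affine and weakly contractible, and epimorphisms of abelian sheaves are surjective on sections
over weakly contractible objects. -/

set_option autoImplicit false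
set_option linter.unusedSectionVars false
set_option linter.unusedVariables false
set_option linter.unusedSimpArgs false
set_option linter.style.haveILetI false
set_option maxHeartbeats 800000
set_option synthInstance.maxHeartbeats 400000
set_option backward.isDefEq.respectTransparency false

universe u u₁ u₂ v₁ v₂
open CategoryTheory Limits Opposite AlgebraicGeometry

namespace Groth.Agent.Lib.Helper6.PushExact

theorem preservesFiniteColimits_of_epi {C : Type u₁} [Category.{v₁} C] [Abelian C]
    {D : Type u₂} [Category.{v₂} D] [Abelian D] (F : C ⥤ D)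
    [F.Additive] [PreservesFiniteLimits F] [F.PreservesEpimorphisms] :
    PreservesFiniteColimits F := by
  apply ((Functor.preservesFiniteColimits_tfae F).out 0 3).mp
  intro S hS
  have h30 := ((Functor.preservesFiniteLimits_tfae F).out 3 0).mp
    (inferInstance : PreservesFiniteLimits F)
  refine ⟨(h30 S hS).1, ?_⟩
  haveI := hS.epi_g
  infer_instance

/-- an epimorphism of abelian pro-étale sheaves is surjective on sections over a weakly
contractible object -/
theorem surjective_of_isWC {X : Scheme.{u}} {F G : ProEtS.AbP X} (a : F ⟶ G) [Epi a]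
    (W : X.ProEt) (hW : ProEtS.IsWC W) (s : ToType (G.obj.obj (op W))) :
    ∃ t : ToType (F.obj.obj (op W)), a.hom.app (op W) t = s := by
  haveI h1 : Sheaf.IsLocallySurjective a :=
    (Sheaf.isLocallySurjective_iff_epi' _ a).mpr inferInstance
  haveI h2 : Sheaf.IsLocallySurjective
      ((sheafCompose (Scheme.ProEt.topology X) (forget AddCommGrpCat.{u + 1})).map a) :=
    inferInstance
  have h3 : Epi ((sheafCompose (Scheme.ProEt.topology X) (forget AddCommGrpCat.{u + 1})).map a) :=
    inferInstance
  obtain ⟨t, ht⟩ := hW _ _ _ h3 s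
  exact ⟨t, ht⟩

/-- the base change along a finite, finitely presented morphism of an affine object with
w-contractible ring of functions is weakly contractible -/
theorem isWC_bcP {Z X : Scheme.{u}} (f : Z ⟶ X) [IsFinite f] [LocallyOfFinitePresentation f]
    (V : X.ProEt) [IsAffine V.left] (hV : EtPBC.IsWContractible ↥(Γ(V.left, ⊤))) :
    ProEtS.IsWC ((ProEtS.bcP f).obj V) := by
  haveI haff0 : IsAffine ((𝟭 Scheme).obj V.left) := ‹IsAffine V.left›
  haveI hfin : IsFinite (pullback.fst V.hom f) := inferInstance
  haveI hfp : LocallyOfFinitePresentation (pullback.fst V.hom f) := inferInstance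
  haveI haff : IsAffine (pullback V.hom f) := isAffine_of_isAffineHom (pullback.fst V.hom f)
  haveI : IsAffine ((ProEtS.bcP f).obj V).left := haff
  refine (H9FE.ProEtW.main715 _).mp ?_
  show EtPBC.IsWContractible ↥(Γ(pullback V.hom f, ⊤))
  have h1 : (pullback.fst V.hom f).appTop.hom.Finite := Scheme.Hom.finite_appTop _
  have h2 : (pullback.fst V.hom f).appTop.hom.FinitePresentation :=
    Scheme.Hom.finitePresentation_appTop _
  letI alg : Algebra ↥(Γ(V.left, ⊤)) ↥(Γ(pullback V.hom f, ⊤)) :=
    (pullback.fst V.hom f).appTop.hom.toAlgebra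
  haveI : Module.Finite ↥(Γ(V.left, ⊤)) ↥(Γ(pullback V.hom f, ⊤)) := h1
  haveI : Algebra.FinitePresentation ↥(Γ(V.left, ⊤)) ↥(Γ(pullback V.hom f, ⊤)) := h2
  exact Groth.Agent.Lib.Helper6.ExtrDisc.main679 _ _ hV

/-- a functor `B` between small pro-étale sites which sends affine objects with w-contractible
rings to weakly contractible objects induces a direct image preserving epimorphisms -/
theorem epi_push_of_isWC {Z X : Scheme.{u}} (B : X.ProEt ⥤ Z.ProEt)
    [B.IsContinuous (Scheme.ProEt.topology X) (Scheme.ProEt.topology Z)]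
    (hB : ∀ (V : X.ProEt), IsAffine V.left → EtPBC.IsWContractible ↥(Γ(V.left, ⊤)) →
      ProEtS.IsWC (B.obj V))
    {F G : ProEtS.AbP Z} (a : F ⟶ G) [Epi a] :
    Epi ((B.sheafPushforwardContinuous AddCommGrpCat.{u + 1} (Scheme.ProEt.topology X)
      (Scheme.ProEt.topology Z)).map a) := by
  refine (Sheaf.isLocallySurjective_iff_epi' _ _).mp ?_
  refine ⟨fun {U} s => ?_⟩
  obtain ⟨ι, V, g, hcov, hV⟩ := H9FE.ProEtW.main7286 U
  refine (Scheme.ProEt.topology X).superset_covering ?_ hcov
  rw [Sieve.generate_le_iff]
  rintro W h ⟨i⟩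
  have hWC := hB (V i) (hV i).1 (hV i).2
  obtain ⟨t, ht⟩ := surjective_of_isWC a _ hWC (G.obj.map (B.map (g i)).op s)
  exact ⟨t, ht⟩

theorem main721 {Z X : Scheme.{u}} (f : Z ⟶ X) [IsFinite f]
    [LocallyOfFinitePresentation f] [ProEtS.PCont f] :
    PreservesFiniteLimits (ProEtS.pushP f) ∧ PreservesFiniteColimits (ProEtS.pushP f) := by
  haveI h0 : PreservesLimitsOfSize.{u + 1, u + 1} (ProEtS.pushP f) :=
    (ProEtS.pullPushAdjP f).rightAdjoint_preservesLimits
  haveI h1 : PreservesFiniteLimits (ProEtS.pushP f) :=
    PreservesLimitsOfSize.preservesFiniteLimits _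
  haveI h2 : (ProEtS.pushP f).PreservesEpimorphisms :=
    ⟨fun a _ => epi_push_of_isWC (ProEtS.bcP f)
      (fun V hVa hVc => by haveI := hVa; exact isWC_bcP f V hVc) a⟩
  exact ⟨h1, preservesFiniteColimits_of_epi _⟩

end Groth.Agent.Lib.Helper6.PushExact
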