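import Mathlib
import Groth.Prelude.Def_ProEtS
import Groth.Prelude.Def_PBC
import Groth.Agent.Lib.Helper6.PushExact.PE1

/-! helper6: exactness of the direct image of abelian pro-étale sheaves along a closed immersion
whose complement is retrocompact (S0722): a quotient `A ⧸ I` of a w-contractible ring such that
the complement of `V(I)` is quasi-compact is again w-contractible. -/

set_option autoImplicit false
set_option linter.unusedSectionVars false
set_option linter.unusedVariables false
set_option linter.unusedSimpArgs false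
set_option linter.style.haveILetI false
set_option maxHeartbeats 800000
set_option synthInstance.maxHeartbeats 400000
set_option backward.isDefEq.respectTransparency false

universe u
open CategoryTheory Limits Opposite AlgebraicGeometry PrimeSpectrum Topology

namespace Groth.Agent.Lib.Helper6.PushExact

theorem extremallyDisconnected_of_isOpenEmbedding {X Y : Type*} [TopologicalSpace X]
    [TopologicalSpace Y] [ExtremallyDisconnected Y] {g : X → Y} (hg : IsOpenEmbedding g) :
    ExtremallyDisconnected X := by
  refine ⟨fun U hU => ?_⟩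
  rw [hg.isEmbedding.closure_eq_preimage_closure_image]
  exact (ExtremallyDisconnected.open_closure _ (hg.isOpenMap _ hU)).preimage hg.continuous

section Ring

variable (A B : Type u) [CommRing A] [CommRing B] [Algebra A B]

theorem extrDisc_pi0_of_surjective (hs : Function.Surjective (algebraMap A B))
    (hc : IsCompact (Set.range (comap (algebraMap A B)))ᶜ)
    (hW : ProEtW.IsWLocal (PrimeSpectrum A)) (hWB : ProEtW.IsWLocal (PrimeSpectrum B))
    (hED : ExtremallyDisconnected (_root_.ConnectedComponents (PrimeSpectrum A))) :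
    ExtremallyDisconnected (_root_.ConnectedComponents (PrimeSpectrum B)) := by
  haveI := hED
  haveI hEDA : ExtremallyDisconnected (H9FE.WLz2.Xc A) :=
    H9FE.WStr.extremallyDisconnected_of_homeomorph (H9FE.WLz2.hcHomeo A hW)
  haveI hT2 : T2Space (H9FE.WLz2.Xc A) := (H9FE.WLz2.hcHomeo A hW).isEmbedding.t2Space
  have hemb := PrimeSpectrum.isClosedEmbedding_comap_of_surjective B (algebraMap A B) hs
  have hcl : ∀ q : PrimeSpectrum B, IsClosed ({q} : Set (PrimeSpectrum B)) →
      IsClosed ({comap (algebraMap A B) q} : Set (PrimeSpectrum A)) := by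
    intro q hq
    have h1 := hemb.isClosedMap _ hq
    rwa [Set.image_singleton] at h1
  obtain ⟨g, hg⟩ : ∃ g : H9FE.WLz2.Xc B → H9FE.WLz2.Xc A,
      g = fun q => ⟨comap (algebraMap A B) q.1, hcl q.1 q.2⟩ := ⟨_, rfl⟩
  have hgval : ∀ q, (g q).1 = comap (algebraMap A B) q.1 := by
    intro q
    rw [hg]
  have hgcont : Continuous g := by
    rw [hg]
    exact Continuous.subtype_mk (hemb.continuous.comp continuous_subtype_val) _
  have hgemb : IsEmbedding g := by
    refine IsEmbedding.of_comp hgcont continuous_subtype_val ?_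
    have h2 : (Subtype.val ∘ g) = (comap (algebraMap A B)) ∘ Subtype.val := by
      funext q
      exact hgval q
    rw [h2]
    exact hemb.isEmbedding.comp IsEmbedding.subtypeVal
  have hrange : Set.range g =
      {c : H9FE.WLz2.Xc A | c.1 ∈ Set.range (comap (algebraMap A B))} := by
    ext c
    constructor
    · rintro ⟨q, rfl⟩
      exact ⟨q.1, (hgval q).symm⟩
    · rintro ⟨q, hq⟩
      have hqc : IsClosed ({q} : Set (PrimeSpectrum B)) := by
        have h1 : ({q} : Set (PrimeSpectrum B)) = comap (algebraMap A B) ⁻¹' {c.1} := by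
          ext q'
          simp only [Set.mem_singleton_iff, Set.mem_preimage]
          constructor
          · rintro rfl
            exact hq
          · intro h
            exact hemb.injective (h.trans hq.symm)
        rw [h1]
        exact c.2.preimage hemb.continuous
      refine ⟨⟨q, hqc⟩, Subtype.ext ?_⟩
      rw [hgval]
      exact hq
  have hopen : IsOpen (Set.range g) := by
    rw [hrange]
    have hce : IsClosedEmbedding (Subtype.val : H9FE.WLz2.Xc A → PrimeSpectrum A) :=
      hW.2.1.isClosedEmbedding_subtypeVal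
    have hcompl : IsCompact
        {c : H9FE.WLz2.Xc A | c.1 ∈ (Set.range (comap (algebraMap A B)))ᶜ} :=
      hce.isCompact_preimage hc
    have hclosed := hcompl.isClosed
    have h3 : {c : H9FE.WLz2.Xc A | c.1 ∈ Set.range (comap (algebraMap A B))} =
        {c : H9FE.WLz2.Xc A | c.1 ∈ (Set.range (comap (algebraMap A B)))ᶜ}ᶜ := by
      ext c
      simp
    rw [h3]
    exact hclosed.isOpen_compl
  haveI : ExtremallyDisconnected (H9FE.WLz2.Xc B) :=
    extremallyDisconnected_of_isOpenEmbedding ⟨hgemb, hopen⟩
  exact H9FE.WStr.extremallyDisconnected_of_homeomorph (H9FE.WLz2.hcHomeo B hWB).symm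

theorem wContractible_of_surjective (hs : Function.Surjective (algebraMap A B))
    (hc : IsCompact (Set.range (comap (algebraMap A B)))ᶜ)
    (h : EtPBC.IsWContractible A) : EtPBC.IsWContractible B := by
  obtain ⟨hW, hED, hSH⟩ := (H9FE.WStr.main677 A).mp h
  have hH : ∀ (m : Ideal A) [m.IsMaximal], HenselianLocalRing (Localization.AtPrime m) := by
    intro m _
    obtain ⟨h1, -⟩ := hSH m
    exact h1
  haveI : Module.Finite A B := Module.Finite.of_surjective (Algebra.linearMap A B) hs
  haveI : Algebra.IsIntegral A B := inferInstance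
  have hWB := Groth.Agent.Lib.Helper6.ExtrDisc.isWLocal_of_integral A B hW hH
  exact H9FE.WStr.wContractible_of_conditions B hWB
    (extrDisc_pi0_of_surjective A B hs hc hW hWB hED)
    (fun n _ => Groth.Agent.Lib.Helper6.ExtrDisc.strictlyHenselian_of_finite A B hSH n)

end Ring

theorem isRetrocompact_preimage {X Y : Scheme.{u}} (f : X ⟶ Y) {t : Set Y} (ht : IsOpen t)
    (ht' : IsRetrocompact t) : IsRetrocompact (f ⁻¹' t) :=
  IsRetrocompact_iff_isSpectralMap_subtypeVal.mpr
    (quasiCompact_iff_isSpectralMap.mp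
    (MorphismProperty.of_isPullback (P := @QuasiCompact)
    (isPullback_morphismRestrict f ⟨t, ht⟩)
    (quasiCompact_iff_isSpectralMap.mpr (IsRetrocompact_iff_isSpectralMap_subtypeVal.mp ht'))))

/-- transport of compactness of the complement of the range to prime spectra -/
theorem isCompact_compl_range_comap {P Y : Scheme.{u}} [IsAffine P] [IsAffine Y] (p : P ⟶ Y)
    (hK : IsCompact (Set.range p)ᶜ) :
    IsCompact (Set.range (comap p.appTop.hom))ᶜ := by
  have hnat := Scheme.isoSpec_hom_naturality p
  have himg : (Set.range (comap p.appTop.hom))ᶜ = Y.isoSpec.hom '' (Set.range p)ᶜ := by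
    ext x
    constructor
    · intro hx
      refine ⟨Y.isoSpec.inv x, ?_, Scheme.inv_hom_apply Y.isoSpec x⟩
      rintro ⟨q', hq'⟩
      apply hx
      refine ⟨P.isoSpec.hom q', ?_⟩
      have h1 : (P.isoSpec.hom ≫ Spec.map p.appTop) q' = (p ≫ Y.isoSpec.hom) q' := by
        rw [hnat]
      rw [Scheme.Hom.comp_apply, Scheme.Hom.comp_apply, hq', Scheme.inv_hom_apply] at h1
      exact h1
    · rintro ⟨y, hy, rfl⟩
      rintro ⟨q, hq⟩
      apply hy
      refine ⟨P.isoSpec.inv q, ?_⟩
      have h1 : (P.isoSpec.hom ≫ Spec.map p.appTop) (P.isoSpec.inv q) =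
          (p ≫ Y.isoSpec.hom) (P.isoSpec.inv q) := by
        rw [hnat]
      rw [Scheme.Hom.comp_apply, Scheme.Hom.comp_apply, Scheme.inv_hom_apply] at h1
      have h2 : Y.isoSpec.hom (p (P.isoSpec.inv q)) = Y.isoSpec.hom y := by
        rw [← h1]
        exact hq
      have h3 := congrArg (fun z => Y.isoSpec.inv z) h2
      simp only [Scheme.hom_inv_apply] at h3
      exact h3
  rw [himg]
  exact hK.image Y.isoSpec.hom.continuous

theorem isWC_bcP_closed {Z X : Scheme.{u}} (i : Z ⟶ X) [IsClosedImmersion i]
    (hr : IsRetrocompact (Set.range i.base)ᶜ)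
    (V : X.ProEt) [IsAffine V.left] (hV : EtPBC.IsWContractible ↥(Γ(V.left, ⊤))) :
    ProEtS.IsWC ((ProEtS.bcP i).obj V) := by
  haveI haff0 : IsAffine ((𝟭 Scheme).obj V.left) := ‹IsAffine V.left›
  haveI hci : IsClosedImmersion (pullback.fst V.hom i) := inferInstance
  haveI haff : IsAffine (pullback V.hom i) := isAffine_of_isAffineHom (pullback.fst V.hom i)
  haveI : IsAffine ((ProEtS.bcP i).obj V).left := haff
  refine (H9FE.ProEtW.main715 _).mp ?_
  show EtPBC.IsWContractible ↥(Γ(pullback V.hom i, ⊤))
  have hsurj : Function.Surjective (pullback.fst V.hom i).appTop.hom :=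
    (IsClosedImmersion.isAffine_surjective_of_isAffine (pullback.fst V.hom i)).2
  have hopen : IsOpen (Set.range i)ᶜ := i.isClosedEmbedding.isClosed_range.isOpen_compl
  have hr' : IsRetrocompact (Set.range i)ᶜ := hr
  have h1 : IsRetrocompact (V.hom ⁻¹' (Set.range i)ᶜ) := isRetrocompact_preimage V.hom hopen hr'
  haveI : CompactSpace V.left := inferInstance
  have h2 : IsCompact (V.hom ⁻¹' (Set.range i)ᶜ) := by
    have h3 := h1 isCompact_univ isOpen_univ
    rwa [Set.inter_univ] at h3
  have h4 : IsCompact (Set.range (pullback.fst V.hom i))ᶜ := by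
    rw [Scheme.Pullback.range_fst]
    exact h2
  have h5 := isCompact_compl_range_comap (pullback.fst V.hom i) h4
  letI alg : Algebra ↥(Γ(V.left, ⊤)) ↥(Γ(pullback V.hom i, ⊤)) :=
    (pullback.fst V.hom i).appTop.hom.toAlgebra
  have hs' : Function.Surjective
      (algebraMap ↥(Γ(V.left, ⊤)) ↥(Γ(pullback V.hom i, ⊤))) := hsurj
  have hc' : IsCompact (Set.range (comap
      (algebraMap ↥(Γ(V.left, ⊤)) ↥(Γ(pullback V.hom i, ⊤)))))ᶜ := h5
  exact @wContractible_of_surjective ↥(Γ(V.left, ⊤)) ↥(Γ(pullback V.hom i, ⊤)) _ _ alg hs' hc' hV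

theorem main722 {Z X : Scheme.{u}} (i : Z ⟶ X)
    [IsClosedImmersion i] (hr : IsRetrocompact (Set.range i.base)ᶜ) [ProEtS.PCont i] :
    PreservesFiniteLimits (ProEtS.pushP i) ∧ PreservesFiniteColimits (ProEtS.pushP i) := by
  haveI h0 : PreservesLimitsOfSize.{u + 1, u + 1} (ProEtS.pushP i) :=
    (ProEtS.pullPushAdjP i).rightAdjoint_preservesLimits
  haveI h1 : PreservesFiniteLimits (ProEtS.pushP i) :=
    PreservesLimitsOfSize.preservesFiniteLimits _
  haveI h2 : (ProEtS.pushP i).PreservesEpimorphisms :=
    ⟨fun a _ => epi_push_of_isWC (ProEtS.bcP i)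
      (fun V hVa hVc => by haveI := hVa; exact isWC_bcP_closed i hr V hVc) a⟩
  exact ⟨h1, preservesFiniteColimits_of_epi _⟩

end Groth.Agent.Lib.Helper6.PushExact
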